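/-
The stabiliser of the quaternion subalgebra: `(g, c)` with `det g = det c` acts on `M₂ ⊕ M₂` by
`(x, y) ↦ (c x c⁻¹, g y c⁻¹)`.

* `quatHom`: the representation on `F⁸`
* `quatHom_mem`: it lands in `G2 F`
* `quatHom_eq_one_iff`: its kernel consists of the diagonal scalars
-/
import Cfsg.Agent.Lib.G2Zorn.Basic
import Mathlib.LinearAlgebra.Matrix.Adjugate

set_option autoImplicit false

namespace Cfsg.Agent.G2Zorn

open Cfsg.Lie Matrix

variable {F : Type*} [Field F]

/-- `M₂(F)`. -/
abbrev M2 (F : Type*) := Matrix (Fin 2) (Fin 2) F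

/-- The splitting of the octonions as `M₂ ⊕ M₂`. -/
def quatEquiv : (M2 F × M2 F) ≃ₗ[F] (Fin 8 → F) where
  toFun p := Zv (p.1 0 0) ![p.1 0 1, p.2 0 0, p.2 1 0] ![p.1 1 0, -p.2 1 1, p.2 0 1] (p.1 1 1)
  invFun x := (!![x 0, x 1; x 4, x 7], !![x 2, x 6; x 3, -x 5])
  left_inv p := by
    refine Prod.ext ?_ ?_ <;> ext i j <;> fin_cases i <;> fin_cases j <;> simp [Zv]
  right_inv x := by
    funext i; fin_cases i <;> simp [Zv]
  map_add' p r := by
    funext i; fin_cases i <;> simp [Zv]; ring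
  map_smul' t p := by
    funext i; fin_cases i <;> simp [Zv]

theorem zornMul_quat (x x' y y' : M2 F) :
    zornMul (quatEquiv (x, y)) (quatEquiv (x', y')) =
      quatEquiv (x * x' - adjugate y' * y, y' * x + y * adjugate x') := by
  show zornMul (Zv _ _ _ _) (Zv _ _ _ _) = Zv _ _ _ _
  rw [zornMul_Zv]
  funext i
  fin_cases i <;>
    simp [Zv, dot3, cross3, Matrix.adjugate_fin_two, Matrix.mul_apply, Fin.sum_univ_two,
      Matrix.vecMul, dotProduct, Matrix.vecHead, Matrix.vecTail] <;> ring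

/-- The action on `M₂ ⊕ M₂`. -/
def quatLin (gc : GL (Fin 2) F × GL (Fin 2) F) : (M2 F × M2 F) →ₗ[F] (M2 F × M2 F) where
  toFun p := ((gc.2 : M2 F) * p.1 * ((gc.2⁻¹ : GL (Fin 2) F) : M2 F),
    (gc.1 : M2 F) * p.2 * ((gc.2⁻¹ : GL (Fin 2) F) : M2 F))
  map_add' p r := by
    simp only [Prod.fst_add, Prod.snd_add, Matrix.mul_add, Matrix.add_mul, Prod.mk_add_mk]
  map_smul' t p := by
    simp only [Prod.smul_fst, Prod.smul_snd, Matrix.mul_smul, Matrix.smul_mul, RingHom.id_apply,
      Prod.smul_mk]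

/-- The representation as matrices. -/
noncomputable def quatMat : GL (Fin 2) F × GL (Fin 2) F →* Matrix (Fin 8) (Fin 8) F where
  toFun gc := LinearMap.toMatrix'
    ((quatEquiv (F := F)).toLinearMap.comp ((quatLin gc).comp (quatEquiv (F := F)).symm.toLinearMap))
  map_one' := by
    rw [show quatLin (1 : GL (Fin 2) F × GL (Fin 2) F) = LinearMap.id from LinearMap.ext fun p => by
      refine Prod.ext ?_ ?_ <;> simp [quatLin], LinearMap.id_comp, LinearEquiv.comp_symm]
    exact LinearMap.toMatrix'_id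
  map_mul' a b := by
    rw [← LinearMap.toMatrix'_comp]
    congr 1
    refine LinearMap.ext fun x => ?_
    simp only [LinearMap.comp_apply, LinearEquiv.coe_coe, LinearEquiv.symm_apply_apply]
    congr 1
    refine Prod.ext ?_ ?_ <;>
      simp only [quatLin, LinearMap.coe_mk, AddHom.coe_mk, Prod.fst_mul, Prod.snd_mul, _root_.mul_inv_rev,
        Units.val_mul, Matrix.mul_assoc]

/-- The representation in `GL₈`. -/
noncomputable def quatHom : GL (Fin 2) F × GL (Fin 2) F →* GL (Fin 8) F := quatMat.toHomUnits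

theorem act_quatHom (gc : GL (Fin 2) F × GL (Fin 2) F) (p : M2 F × M2 F) :
    act (quatHom gc) (quatEquiv p) = quatEquiv (quatLin gc p) := by
  show LinearMap.toMatrix' _ *ᵥ _ = _
  rw [LinearMap.toMatrix'_mulVec]
  simp

theorem adjugate_units_inv (c : GL (Fin 2) F) :
    adjugate ((c⁻¹ : GL (Fin 2) F) : M2 F) = ((c : M2 F).det)⁻¹ • (c : M2 F) := by
  have h : adjugate ((c⁻¹ : GL (Fin 2) F) : M2 F) * ((c⁻¹ : GL (Fin 2) F) : M2 F) =
      ((c : M2 F).det)⁻¹ • 1 := by
    rw [adjugate_mul, Matrix.GeneralLinearGroup.coe_inv, Matrix.det_nonsing_inv, Ring.inverse_eq_inv']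
  have := congrArg (fun z : M2 F => z * (c : M2 F)) h
  simpa [Matrix.mul_assoc, ← Units.val_mul, Matrix.smul_mul] using this

theorem quatHom_mem {gc : GL (Fin 2) F × GL (Fin 2) F}
    (h : GeneralLinearGroup.det gc.1 = GeneralLinearGroup.det gc.2) : quatHom gc ∈ G2 F := by
  obtain ⟨g, c⟩ := gc
  have hd : (g : M2 F).det = (c : M2 F).det := congrArg Units.val h
  have hne : (c : M2 F).det ≠ 0 := (GeneralLinearGroup.det c).ne_zero
  rw [mem_G2_iff]
  intro u v
  obtain ⟨⟨x, y⟩, rfl⟩ := (quatEquiv (F := F)).surjective u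
  obtain ⟨⟨x', y'⟩, rfl⟩ := (quatEquiv (F := F)).surjective v
  rw [zornMul_quat, act_quatHom, act_quatHom, act_quatHom, quatLin, LinearMap.coe_mk, AddHom.coe_mk,
    zornMul_quat]
  dsimp only
  set ci : M2 F := ((c⁻¹ : GL (Fin 2) F) : M2 F)
  have h1 : ci * (c : M2 F) = 1 := by simp [ci, ← Units.val_mul]
  have h2 : ∀ z : M2 F, ci * ((c : M2 F) * z) = z := fun z => by rw [← Matrix.mul_assoc, h1, Matrix.one_mul]
  have hg : ∀ z : M2 F, adjugate (g : M2 F) * ((g : M2 F) * z) = (g : M2 F).det • z := fun z => by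
    rw [← Matrix.mul_assoc, adjugate_mul, Matrix.smul_mul, Matrix.one_mul]
  have hc : adjugate ci = ((c : M2 F).det)⁻¹ • (c : M2 F) := adjugate_units_inv c
  have hac : adjugate (c : M2 F) = (c : M2 F).det • ci := by
    have := congrArg (fun z : M2 F => z * ci) (adjugate_mul (c : M2 F))
    simpa [ci, Matrix.mul_assoc, ← Units.val_mul, Matrix.smul_mul] using this
  congr 1
  refine Prod.ext ?_ ?_
  · simp only [Matrix.mul_sub, Matrix.sub_mul, Matrix.adjugate_mul_distrib, hc, Matrix.smul_mul,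
      Matrix.mul_assoc, h2, hg, Matrix.mul_smul, smul_smul, hd, inv_mul_cancel₀ hne,
      mul_inv_cancel₀ hne, one_smul]
  · simp only [Matrix.mul_add, Matrix.add_mul, Matrix.adjugate_mul_distrib, hc, hac, Matrix.smul_mul,
      Matrix.mul_assoc, h2, Matrix.mul_smul, smul_smul, inv_mul_cancel₀ hne,
      mul_inv_cancel₀ hne, one_smul]

theorem quatHom_eq_one_iff (g c : GL (Fin 2) F) :
    quatHom (g, c) = 1 ↔ g = c ∧ ∀ x : M2 F, (c : M2 F) * x = x * (c : M2 F) := by
  have key : quatHom (g, c) = 1 ↔ ∀ p, quatLin (g, c) p = p := by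
    constructor
    · intro h p
      have := act_quatHom (g, c) p
      rw [h, act, Units.val_one, one_mulVec] at this
      exact (quatEquiv.injective this).symm
    · intro h
      refine Units.ext (Matrix.toLin'.injective (LinearMap.ext fun x => ?_))
      obtain ⟨p, rfl⟩ := (quatEquiv (F := F)).surjective x
      show act (quatHom (g, c)) _ = act 1 _
      rw [act_quatHom, h, act, Units.val_one, one_mulVec]
  rw [key]
  constructor
  · intro h
    have h1 := congrArg Prod.snd (h (0, 1))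
    change (g : M2 F) * 1 * ((c⁻¹ : GL (Fin 2) F) : M2 F) = 1 at h1
    refine ⟨?_, fun x => ?_⟩
    · have h2 : g * c⁻¹ = 1 := Units.ext (by simpa using h1)
      exact mul_inv_eq_one.mp h2
    · have h2 := congrArg Prod.fst (h (x, 0))
      change (c : M2 F) * x * ((c⁻¹ : GL (Fin 2) F) : M2 F) = x at h2
      have := congrArg (fun z : M2 F => z * (c : M2 F)) h2
      simpa [Matrix.mul_assoc, ← Units.val_mul] using this
  · rintro ⟨rfl, h⟩ ⟨x, y⟩
    refine Prod.ext ?_ ?_
    · show (g : M2 F) * x * _ = x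
      rw [h, Matrix.mul_assoc, ← Units.val_mul, mul_inv_cancel, Units.val_one, Matrix.mul_one]
    · show (g : M2 F) * y * _ = y
      rw [h, Matrix.mul_assoc, ← Units.val_mul, mul_inv_cancel, Units.val_one, Matrix.mul_one]

end Cfsg.Agent.G2Zorn
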