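/-
A Sylow `2`-subgroup of `G2 F`, `q` odd: the image of pairs from a Sylow `2`-subgroup of `GL_2(F)`.

* `exists_gl_two_monomial`: a Sylow `2`-subgroup of `GL_2` containing `diag(ε, 1)` and the swap
* `sqComm_sylow_G2`
-/
import Cfsg.Agent.Lib.G2Zorn.Order
import Cfsg.Agent.Lib.G2Zorn.Quaternion
import Cfsg.Agent.Lib.WreathAb.GL

set_option autoImplicit false

namespace Cfsg.Agent.G2Zorn

open Cfsg.Lie Matrix WreathAb
open scoped commutatorElement

variable {F : Type*} [Field F]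

/-- Diagonal `2 × 2` matrices. -/
noncomputable def dTwo : (Fin 2 → Fˣ) →* GL (Fin 2) F :=
  (Units.map (Matrix.diagonalRingHom (Fin 2) F).toMonoidHom).comp MulEquiv.piUnits.symm.toMonoidHom

theorem dTwo_val (f : Fin 2 → Fˣ) :
    ((dTwo f : GL (Fin 2) F) : M2 F) = Matrix.diagonal fun i => (f i : F) := rfl

/-- The swap matrix. -/
def swapTwo : GL (Fin 2) F :=
  ⟨!![0, 1; 1, 0], !![0, 1; 1, 0],
    by ext i j; fin_cases i <;> fin_cases j <;> simp [Matrix.mul_apply, Fin.sum_univ_two],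
    by ext i j; fin_cases i <;> fin_cases j <;> simp [Matrix.mul_apply, Fin.sum_univ_two]⟩

theorem swapTwo_mul_swapTwo : (swapTwo : GL (Fin 2) F) * swapTwo = 1 := by
  refine Units.ext ?_
  ext i j; fin_cases i <;> fin_cases j <;> simp [swapTwo, Matrix.mul_apply, Fin.sum_univ_two]

theorem swapTwo_dTwo (f : Fin 2 → Fˣ) :
    (swapTwo : GL (Fin 2) F) * dTwo f = dTwo ![f 1, f 0] * swapTwo := by
  refine Units.ext ?_
  rw [Units.val_mul, Units.val_mul, dTwo_val, dTwo_val]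
  ext i j; fin_cases i <;> fin_cases j <;> simp [swapTwo, Matrix.mul_apply, Fin.sum_univ_two]

variable [Finite F]

theorem exists_gl_two_monomial (hF : Odd (Nat.card F)) :
    ∃ (W : Subgroup (GL (Fin 2) F)) (ε : Fˣ),
      Nat.card W = 2 ^ (padicValNat 2 (Nat.card F - 1) + padicValNat 2 (Nat.card F ^ 2 - 1)) ∧
      dTwo ![ε, 1] ∈ W ∧ swapTwo ∈ W ∧ orderOf ε = 2 ^ padicValNat 2 (Nat.card F - 1) ∧
      (∀ w ∈ W, GeneralLinearGroup.det w ∈ Subgroup.zpowers ε) ∧
      SqComm (W ⊓ (GeneralLinearGroup.det : GL (Fin 2) F →* Fˣ).ker) := by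
  obtain ⟨W₁, ε, hcard, -, hε, hdet, hsq⟩ := exists_gl_two_data hF
  let T : Subgroup (Fin 2 → Fˣ) := Subgroup.pi Set.univ fun _ => Subgroup.zpowers ε
  let D : Subgroup (GL (Fin 2) F) := T.map dTwo
  have hD : IsPGroup 2 D := by
    rintro ⟨_, f, hf, rfl⟩
    refine ⟨padicValNat 2 (Nat.card F - 1), Subtype.ext ?_⟩
    show dTwo f ^ _ = 1
    rw [← map_pow, show f ^ 2 ^ padicValNat 2 (Nat.card F - 1) = 1 from funext fun i => ?_, map_one]
    obtain ⟨k, hk⟩ := Subgroup.mem_zpowers_iff.mp (hf i (Set.mem_univ i))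
    rw [Pi.pow_apply, Pi.one_apply, ← hk, ← hε, ← zpow_natCast, ← _root_.zpow_mul, mul_comm, _root_.zpow_mul,
      zpow_natCast, pow_orderOf_eq_one, _root_.one_zpow]
  have hS : IsPGroup 2 (Subgroup.zpowers (swapTwo : GL (Fin 2) F)) := by
    intro x
    obtain ⟨k, hk⟩ := Subgroup.mem_zpowers_iff.mp x.2
    refine ⟨1, Subtype.ext ?_⟩
    show (x : GL (Fin 2) F) ^ 2 ^ 1 = 1
    rw [← hk, pow_one, pow_two, ← (Commute.refl (swapTwo : GL (Fin 2) F)).mul_zpow, swapTwo_mul_swapTwo, _root_.one_zpow]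
  have hnorm : Subgroup.zpowers (swapTwo : GL (Fin 2) F) ≤ Subgroup.normalizer (D : Set (GL (Fin 2) F)) := by
    rw [Subgroup.zpowers_le]
    have key : ∀ x ∈ D, swapTwo * x * (swapTwo : GL (Fin 2) F)⁻¹ ∈ D := by
      rintro _ ⟨f, hf, rfl⟩
      rw [swapTwo_dTwo, mul_inv_cancel_right]
      exact Subgroup.mem_map_of_mem _ fun i _ => by
        fin_cases i
        · exact hf 1 (Set.mem_univ _)
        · exact hf 0 (Set.mem_univ _)
    rw [Subgroup.mem_normalizer_iff]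
    intro x
    refine ⟨key x, fun hx => ?_⟩
    have := key _ hx
    rwa [inv_eq_of_mul_eq_one_right swapTwo_mul_swapTwo, ← mul_assoc, ← mul_assoc,
      swapTwo_mul_swapTwo, one_mul, mul_assoc, swapTwo_mul_swapTwo, mul_one] at this
  obtain ⟨W, hW⟩ := (hS.to_sup_of_normal_right' hD hnorm).exists_le_sylow
  let S₁ : Sylow 2 (GL (Fin 2) F) := Sylow.ofCard W₁ (by
    haveI : Fintype F := Fintype.ofFinite F
    have hq1 := one_lt_card_of_odd hF
    rw [hcard, Nat.factorization_def _ Nat.prime_two, GLOrder.card_GL_two,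
      padicValNat.mul (Nat.mul_ne_zero (by omega) (by omega)) (by
        have h1 : 1 < Nat.card F ^ 2 := Nat.one_lt_pow two_ne_zero hq1
        omega),
      padicValNat.mul (by omega) (by omega),
      show padicValNat 2 (Nat.card F) = 0 from padicValNat.eq_zero_of_not_dvd fun h =>
        (Nat.not_even_iff_odd.mpr hF) (even_iff_two_dvd.mpr h), zero_add])
  obtain ⟨g, hg⟩ := MulAction.exists_smul_eq (GL (Fin 2) F) S₁ W
  have hWeq : (W : Subgroup (GL (Fin 2) F)) = W₁.map (MulAut.conj g).toMonoidHom := by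
    rw [← hg]; rfl
  have hdc : ∀ x, GeneralLinearGroup.det ((MulAut.conj g).toMonoidHom x) = GeneralLinearGroup.det x :=
    fun x => by
      show GeneralLinearGroup.det (g * x * g⁻¹) = _
      rw [map_mul, map_mul, map_inv, mul_right_comm, mul_inv_cancel, one_mul]
  refine ⟨W, ε, ?_, ?_, ?_, hε, fun w hw => ?_, ?_⟩
  · rw [hWeq, Subgroup.card_map_of_injective (MulAut.conj g).injective, hcard]
  · refine hW (Subgroup.mem_sup_right ⟨![ε, 1], fun i _ => ?_, rfl⟩)
    fin_cases i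
    · exact Subgroup.mem_zpowers ε
    · exact Subgroup.one_mem _
  · exact hW (Subgroup.mem_sup_left (Subgroup.mem_zpowers _))
  · rw [hWeq] at hw
    obtain ⟨x, hx, rfl⟩ := hw
    rw [hdc]
    exact hdet x hx
  · rw [hWeq]
    have : W₁.map (MulAut.conj g).toMonoidHom ⊓ (GeneralLinearGroup.det : GL (Fin 2) F →* Fˣ).ker =
        (W₁ ⊓ (GeneralLinearGroup.det : GL (Fin 2) F →* Fˣ).ker).map (MulAut.conj g).toMonoidHom := by
      ext x
      constructor
      · rintro ⟨⟨y, hy, rfl⟩, hx⟩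
        exact ⟨y, ⟨hy, (hdc y).symm.trans hx⟩, rfl⟩
      · rintro ⟨y, ⟨hy, hy'⟩, rfl⟩
        exact ⟨⟨y, hy, rfl⟩, (hdc y).trans hy'⟩
    rw [this]
    exact hsq.map _

theorem val_card_G2_le (hF : Odd (Nat.card F)) :
    (Nat.card (G2 F)).factorization 2 ≤ 2 * padicValNat 2 (Nat.card F ^ 2 - 1) := by
  haveI : Fact (Nat.Prime 2) := ⟨Nat.prime_two⟩
  haveI : Finite (GL (Fin 8) F) := inferInstance
  have hq1 := one_lt_card_of_odd hF
  set q := Nat.card F with hq
  have hnd : ¬ 2 ∣ q := fun h => (Nat.not_even_iff_odd.mpr hF) (even_iff_two_dvd.mpr h)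
  have h2 : 1 < q ^ 2 := Nat.one_lt_pow two_ne_zero hq1
  have h3 : 1 < q ^ 3 := Nat.one_lt_pow (by norm_num) hq1
  have hA : (q ^ 6 + q ^ 3) * Nat.card (SpecialLinearGroup (Fin 3) F) ≠ 0 :=
    Nat.mul_ne_zero (by omega) Nat.card_pos.ne'
  have hv := ((Nat.factorization_le_iff_dvd Nat.card_pos.ne' hA).mpr card_G2_dvd) 2
  refine hv.trans ?_
  have hsl : Nat.card (SpecialLinearGroup (Fin 3) F) = q ^ 3 * ((q ^ 2 - 1) * (q ^ 3 - 1)) := by
    rw [GLOrder.card_SL, show Finset.Ico 1 3 = ({1, 2} : Finset ℕ) from rfl, Finset.prod_pair (by norm_num)]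
  have hp : padicValNat 2 (q ^ 3) = 0 :=
    padicValNat.eq_zero_of_not_dvd fun h => hnd (Nat.prime_two.dvd_of_dvd_pow h)
  rw [Nat.factorization_def _ Nat.prime_two, hsl, show q ^ 6 + q ^ 3 = q ^ 3 * (q ^ 3 + 1) by ring,
    padicValNat.mul (Nat.mul_ne_zero (by omega) (by omega))
      (Nat.mul_ne_zero (by omega) (Nat.mul_ne_zero (by omega) (by omega))),
    padicValNat.mul (by omega) (by omega),
    padicValNat.mul (by omega) (Nat.mul_ne_zero (by omega) (by omega)),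
    padicValNat.mul (by omega) (by omega), hp, zero_add, zero_add]
  have h6 := val_pow_even (q := q) hF hq1 (k := 3) (by norm_num)
  rw [show q ^ (2 * 3) - 1 = (q ^ 3 + 1) * (q ^ 3 - 1) by
      rw [show 2 * 3 = 3 * 2 from rfl, pow_mul, ← one_pow 2, Nat.sq_sub_sq, one_pow],
    padicValNat.mul (by omega) (by omega),
    show padicValNat 2 3 = 0 from padicValNat.eq_zero_of_not_dvd (by norm_num)] at h6
  omega

theorem sqComm_sylow_G2 (hF : Odd (Nat.card F)) (P : Sylow 2 (G2 F)) :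
    SqComm (P : Subgroup (G2 F)) := by
  haveI : Fact (Nat.Prime 2) := ⟨Nat.prime_two⟩
  obtain ⟨W, ε, hcard, hd, hw, hε, hdet, hsq⟩ := exists_gl_two_monomial hF
  set a := padicValNat 2 (Nat.card F - 1)
  set b := padicValNat 2 (Nat.card F ^ 2 - 1)
  set d : GL (Fin 2) F := dTwo ![ε, 1] with hddef
  set det := (GeneralLinearGroup.det : GL (Fin 2) F →* Fˣ)
  have hdd : det d = ε := by
    refine Units.ext ?_
    show Matrix.det ((dTwo ![ε, 1] : GL (Fin 2) F) : M2 F) = _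
    rw [dTwo_val, Matrix.det_diagonal, Fin.prod_univ_two]
    simp
  let Q : Subgroup (GL (Fin 2) F) := W ⊓ det.ker
  let H : Subgroup (GL (Fin 2) F × GL (Fin 2) F) := W.prod W ⊓
    (det.comp (MonoidHom.fst _ _) * (det.comp (MonoidHom.snd _ _))⁻¹).ker
  have hH : ∀ x, x ∈ H ↔ (x.1 ∈ W ∧ x.2 ∈ W) ∧ det x.1 = det x.2 := fun x => by
    show x ∈ W.prod W ∧ det x.1 * (det x.2)⁻¹ = 1 ↔ _
    rw [mul_inv_eq_one, Subgroup.mem_prod]
  -- cardinality
  have hcH : Nat.card H = Nat.card Q * Nat.card W := by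
    rw [← Nat.card_prod]
    refine Nat.card_congr
      { toFun := fun x => (⟨x.1.1 * x.1.2⁻¹, W.mul_mem ((hH _).mp x.2).1.1 (W.inv_mem ((hH _).mp x.2).1.2),
          show det (x.1.1 * x.1.2⁻¹) = 1 by rw [map_mul, map_inv, ((hH _).mp x.2).2, mul_inv_cancel]⟩,
          ⟨x.1.2, ((hH _).mp x.2).1.2⟩)
        invFun := fun y => ⟨((y.1 : GL (Fin 2) F) * y.2, y.2), (hH _).mpr ⟨⟨W.mul_mem y.1.2.1 y.2.2, y.2.2⟩, by
          show det ((y.1 : GL (Fin 2) F) * y.2) = det (y.2 : GL (Fin 2) F)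
          rw [map_mul, show det (y.1 : GL (Fin 2) F) = 1 from y.1.2.2, one_mul]⟩⟩
        left_inv := fun x => Subtype.ext (Prod.ext (inv_mul_cancel_right _ _) rfl)
        right_inv := fun y => Prod.ext (Subtype.ext (mul_inv_cancel_right _ _)) rfl }
  have hcQ : Nat.card Q = 2 ^ b := by
    have h1 := (det.comp W.subtype).ker.card_mul_index
    have h2 : Nat.card (det.comp W.subtype).ker = Nat.card Q :=
      Nat.card_congr { toFun := fun x => ⟨x.1.1, x.1.2, x.2⟩, invFun := fun x => ⟨⟨x.1, x.2.1⟩, x.2.2⟩,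
                       left_inv := fun _ => rfl, right_inv := fun _ => rfl }
    have h3 : (det.comp W.subtype).range = Subgroup.zpowers ε := by
      refine le_antisymm ?_ (Subgroup.zpowers_le.mpr ⟨⟨d, hd⟩, hdd⟩)
      rintro _ ⟨x, rfl⟩
      exact hdet x x.2
    rw [Subgroup.index_ker, h2, h3, Nat.card_zpowers, hε, hcard, pow_add, mul_comm (2 ^ a)] at h1
    exact Nat.eq_of_mul_eq_mul_right (Nat.two_pow_pos a) h1
  -- scalars
  let sc : Fˣ → GL (Fin 2) F := fun u => dTwo ![u, u]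
  have hscW : ∀ u ∈ Subgroup.zpowers ε, sc u ∈ W := by
    intro u hu
    obtain ⟨k, rfl⟩ := Subgroup.mem_zpowers_iff.mp hu
    have h1 : sc ε ∈ W := by
      have h : sc ε = d * (swapTwo * d * swapTwo) := by
        rw [hddef, swapTwo_dTwo, mul_assoc (dTwo _), swapTwo_mul_swapTwo, mul_one, ← map_mul]
        show dTwo ![ε, ε] = _
        congr 1
        funext i; fin_cases i <;> simp
      rw [h]
      exact W.mul_mem hd (W.mul_mem (W.mul_mem hw hd) hw)
    have h2 : sc (ε ^ k) = sc ε ^ k := by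
      show dTwo ![ε ^ k, ε ^ k] = dTwo ![ε, ε] ^ k
      rw [← map_zpow]
      congr 1
      funext i; fin_cases i <;> simp
    rw [h2]
    exact W.zpow_mem h1 k
  have hsc1 : ∀ u, quatHom (sc u, sc u) = 1 := fun u => (quatHom_eq_one_iff _ _).mpr ⟨rfl, fun x => by
    rw [dTwo_val]
    ext i j; fin_cases i <;> fin_cases j <;> simp [Matrix.mul_apply, Fin.sum_univ_two, mul_comm]⟩
  -- kernel
  let f := quatHom.comp H.subtype
  have hker : Nat.card f.ker = 2 ^ a := by
    rw [← hε, ← Nat.card_zpowers]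
    refine (Nat.card_congr (Equiv.ofBijective
      (fun u : Subgroup.zpowers ε => (⟨⟨(sc u, sc u), (hH _).mpr ⟨⟨hscW u u.2, hscW u u.2⟩, rfl⟩⟩,
        hsc1 u⟩ : f.ker)) ⟨?_, ?_⟩)).symm
    · intro u v h
      have h1 := congrArg (fun z : f.ker => ((z.1.1.1 : GL (Fin 2) F) : M2 F) 0 0) h
      exact Subtype.ext (Units.ext (by simpa [sc, dTwo_val] using h1))
    · rintro ⟨⟨⟨g, c⟩, hgc⟩, hk⟩
      obtain ⟨rfl, hcomm⟩ := (quatHom_eq_one_iff g c).mp hk
      have e1 := congrFun (congrFun (hcomm !![0, 1; 0, 0]) 0) 1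
      have e2 := congrFun (congrFun (hcomm !![0, 1; 0, 0]) 0) 0
      have e3 := congrFun (congrFun (hcomm !![0, 0; 1, 0]) 0) 0
      simp [Matrix.mul_apply, Fin.sum_univ_two] at e1 e2 e3
      have hne : (g : M2 F) 0 0 ≠ 0 := fun h0 => (GeneralLinearGroup.det g).ne_zero (by
        show Matrix.det (g : M2 F) = 0
        rw [Matrix.det_fin_two, h0, ← e2]; simp)
      set u : Fˣ := Units.mk0 _ hne
      have hg : g = sc u := Units.ext (by
        rw [dTwo_val]
        ext i j; fin_cases i <;> fin_cases j <;> simp [u, e1, e3, ← e2])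
      have hu : u ∈ Subgroup.zpowers ε := by
        obtain ⟨k, hk⟩ := (IsPGroup.of_card hcard) ⟨g, ((hH _).mp hgc).1.1⟩
        have h1 : g ^ 2 ^ k = 1 := congrArg Subtype.val hk
        rw [hg, show sc u ^ 2 ^ k = sc (u ^ 2 ^ k) by
          show dTwo ![u, u] ^ 2 ^ k = dTwo ![u ^ 2 ^ k, u ^ 2 ^ k]
          rw [← map_pow]; congr 1; funext i; fin_cases i <;> simp] at h1
        have h2 : u ^ 2 ^ k = 1 := Units.ext (by
          have := congrArg (fun z : GL (Fin 2) F => (z : M2 F) 0 0) h1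
          simpa [sc, dTwo_val] using this)
        obtain ⟨j, -, hj⟩ := (Nat.dvd_prime_pow Nat.prime_two).mp (orderOf_dvd_of_pow_eq_one h2)
        have h4 : orderOf u ∣ 2 ^ a := by
          rw [hj]
          refine Nat.pow_dvd_pow 2 ((padicValNat_dvd_iff_le ?_).mp ?_)
          · have := one_lt_card_of_odd hF; omega
          · rw [← hj, ← GLOrder.card_units (F := F)]
            exact orderOf_dvd_natCard _
        haveI : NeZero (2 ^ a) := ⟨(Nat.two_pow_pos a).ne'⟩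
        have hprim : IsPrimitiveRoot (ε : F) (2 ^ a) := by
          rw [IsPrimitiveRoot.coe_units_iff, ← hε]
          exact IsPrimitiveRoot.orderOf ε
        obtain ⟨i, -, hi⟩ := hprim.eq_pow_of_pow_eq_one (ξ := (u : F)) (by
          rw [← Units.val_pow_eq_pow_val, orderOf_dvd_iff_pow_eq_one.mp h4, Units.val_one])
        exact ⟨i, by simp only [zpow_natCast]; exact Units.ext (by rw [Units.val_pow_eq_pow_val]; exact hi)⟩
      exact ⟨⟨u, hu⟩, Subtype.ext (Subtype.ext (Prod.ext hg.symm hg.symm))⟩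
  let I : Subgroup (GL (Fin 8) F) := H.map quatHom
  have hcI : Nat.card I = 2 ^ (2 * b) := by
    have h1 := f.ker.card_mul_index
    have hr : f.range = I := by rw [MonoidHom.range_comp, Subgroup.range_subtype]
    rw [Subgroup.index_ker, hker, hr, hcH, hcQ, hcard] at h1
    refine Nat.eq_of_mul_eq_mul_left (Nat.two_pow_pos a) (h1.trans ?_)
    rw [← pow_add, ← pow_add]; ring_nf
  have hIG : I ≤ (G2 F).subtype.range := by
    rw [Subgroup.range_subtype]
    rintro _ ⟨x, hx, rfl⟩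
    exact quatHom_mem ((hH x).mp hx).2
  -- squares
  let iL : GL (Fin 2) F →* GL (Fin 8) F := quatHom.comp (MonoidHom.inl _ _)
  let iR : GL (Fin 2) F →* GL (Fin 8) F := quatHom.comp (MonoidHom.inr _ _)
  have hL : Q.map iL ≤ I := by
    rintro _ ⟨x, hx, rfl⟩
    exact Subgroup.mem_map_of_mem quatHom
      ((hH (x, 1)).mpr ⟨⟨hx.1, W.one_mem⟩, (show det x = 1 from hx.2).trans det.map_one.symm⟩)
  have hR : Q.map iR ≤ I := by
    rintro _ ⟨x, hx, rfl⟩
    exact Subgroup.mem_map_of_mem quatHom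
      ((hH (1, x)).mpr ⟨⟨W.one_mem, hx.1⟩, det.map_one.trans (show det x = 1 from hx.2).symm⟩)
  set Y := {y | y ∈ I ∧ y ^ 2 ∈ ⁅I, I⁆}
  have hdY : quatHom (d, d) ∈ Y := by
    have hdI : quatHom (d, d) ∈ I := Subgroup.mem_map_of_mem _ ((hH _).mpr ⟨⟨hd, hd⟩, rfl⟩)
    have hwI : quatHom (swapTwo, swapTwo) ∈ I := Subgroup.mem_map_of_mem _ ((hH _).mpr ⟨⟨hw, hw⟩, rfl⟩)
    refine ⟨hdI, ?_⟩
    have hc := Subgroup.commutator_mem_commutator hdI hwI
    have key : d * d = (d * swapTwo * d⁻¹ * swapTwo⁻¹) * sc ε := by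
      have hsw : (swapTwo : GL (Fin 2) F)⁻¹ = swapTwo := inv_eq_of_mul_eq_one_right swapTwo_mul_swapTwo
      have h1 : d * swapTwo * d⁻¹ * swapTwo⁻¹ = dTwo (![ε, 1] * ![1, ε⁻¹]) := by
        rw [hsw, hddef, ← map_inv, mul_assoc (dTwo _) swapTwo, swapTwo_dTwo, mul_assoc, mul_assoc,
          swapTwo_mul_swapTwo, mul_one, ← map_mul]
        congr 2
      rw [h1, hddef]
      show dTwo _ * dTwo _ = dTwo _ * dTwo ![ε, ε]
      rw [← map_mul, ← map_mul]
      congr 1
      funext i; fin_cases i <;> simp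
    have heq : quatHom (d, d) ^ 2 =
        ⁅quatHom (d, d), quatHom (swapTwo, swapTwo)⁆ * quatHom (sc ε, sc ε) := by
      rw [commutatorElement_def, ← map_inv, ← map_inv, ← map_pow, ← map_mul, ← map_mul, ← map_mul,
        ← map_mul]
      congr 1
      refine Prod.ext ?_ ?_ <;> (rw [pow_two]; exact key)
    rw [heq, hsc1, mul_one]
    exact hc
  have hclos : I ≤ Subgroup.closure Y := by
    rintro _ ⟨⟨g, c⟩, hgc, rfl⟩
    obtain ⟨⟨hg, hc⟩, hdeq⟩ := (hH _).mp hgc
    obtain ⟨k, hk⟩ := Subgroup.mem_zpowers_iff.mp (hdet c hc)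
    have hq : ∀ z ∈ W, det z = ε ^ k → z * (d ^ k)⁻¹ ∈ Q := fun z hz hzd =>
      ⟨W.mul_mem hz (W.inv_mem (W.zpow_mem hd k)), show det (z * (d ^ k)⁻¹) = 1 by
        rw [map_mul, map_inv, map_zpow, hdd, hzd, mul_inv_cancel]⟩
    have hq1 := hq g hg (hdeq.trans hk.symm)
    have hq2 := hq c hc hk.symm
    have e : (g, c) = (g * (d ^ k)⁻¹, 1) * (1, c * (d ^ k)⁻¹) * ((d, d) : _ × _) ^ k := by
      refine Prod.ext ?_ ?_ <;> simp
    rw [e, map_mul, map_mul, map_zpow]
    refine Subgroup.mul_mem _ (Subgroup.mul_mem _ (Subgroup.subset_closure ⟨?_, ?_⟩)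
      (Subgroup.subset_closure ⟨?_, ?_⟩)) (Subgroup.zpow_mem _ (Subgroup.subset_closure hdY) k)
    · exact hL (Subgroup.mem_map_of_mem iL hq1)
    · exact Subgroup.commutator_mono hL hL (sqComm_iff.mp (hsq.map iL) _ (Subgroup.mem_map_of_mem iL hq1))
    · exact hR (Subgroup.mem_map_of_mem iR hq2)
    · exact Subgroup.commutator_mono hR hR (sqComm_iff.mp (hsq.map iR) _ (Subgroup.mem_map_of_mem iR hq2))
  refine sqComm_of_card_range (G2 F).subtype Subtype.val_injective I hIG ?_ (sqComm_of_closure hclos) P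
  rw [hcI]
  congr 1
  refine le_antisymm ?_ (val_card_G2_le hF)
  have hdvd : Nat.card I ∣ Nat.card (G2 F) :=
    Subgroup.card_dvd_of_le (by rwa [Subgroup.range_subtype] at hIG)
  rw [hcI] at hdvd
  exact (Nat.prime_two.pow_dvd_iff_le_factorization Nat.card_pos.ne').mp hdvd

end Cfsg.Agent.G2Zorn
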